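import Mathlib
import Cfsg.Agent.Lib.Helper40.Semisimple
import Cfsg.Agent.Lib.Helper99.C64.Defs

/-!
# C64 (S6000): package [POS5]

`ord_5(p) = 4`: every non-scalar `x ∈ SL_4(p)` with `x ^ 5` scalar is `SL_4`-conjugate to a scalar
multiple of `g5 ι`, hence into `N(R0)`.
-/

set_option autoImplicit false

namespace Cfsg.Agent.Lib.Helper70.C64

open Matrix Polynomial Cfsg.Agent.Lib.Helper99.C64

universe u

section g5

variable {F : Type u} [Field F]

/-- `2 * g5 ^ 2`. -/
def c64A (ι : F) : M4 F := !![-1, -ι, -ι, 1; -ι, -1, -1, ι; -1, ι, -ι, -1; ι, -1, 1, ι]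
/-- `2 * g5 ^ 4`. -/
def c64B (ι : F) : M4 F := !![ι, ι, ι, ι; ι, -ι, ι, -ι; 1, 1, -1, -1; -1, 1, 1, -1]

theorem c64_g5_sq (h2 : (2 : F) ≠ 0) (ι : F) (hι : ι ^ 2 = -1) :
    g5 ι * g5 ι = (2 : F)⁻¹ • c64A ι := by
  have h2' : (2 : F) * (2 : F)⁻¹ = 1 := mul_inv_cancel₀ h2
  generalize (2 : F)⁻¹ = h at h2'
  ext i j
  fin_cases i <;> fin_cases j <;>
    simp [g5, c64A, Matrix.mul_apply, Fin.sum_univ_four] <;> grind

theorem c64_g5_four (h2 : (2 : F) ≠ 0) (ι : F) (hι : ι ^ 2 = -1) :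
    ((2 : F)⁻¹ • c64A ι) * ((2 : F)⁻¹ • c64A ι) = (2 : F)⁻¹ • c64B ι := by
  have h2' : (2 : F) * (2 : F)⁻¹ = 1 := mul_inv_cancel₀ h2
  generalize (2 : F)⁻¹ = h at h2'
  ext i j
  fin_cases i <;> fin_cases j <;>
    simp [c64A, c64B, Matrix.mul_apply, Fin.sum_univ_four] <;> grind

theorem c64_g5_five (h2 : (2 : F) ≠ 0) (ι : F) (hι : ι ^ 2 = -1) :
    ((2 : F)⁻¹ • c64B ι) * g5 ι = 1 := by
  have h2' : (2 : F) * (2 : F)⁻¹ = 1 := mul_inv_cancel₀ h2
  generalize (2 : F)⁻¹ = h at h2'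
  ext i j
  fin_cases i <;> fin_cases j <;>
    simp [g5, c64B, Matrix.mul_apply, Fin.sum_univ_four] <;> grind

/-- `g5 ^ 5 = 1`. -/
theorem c64_g5_pow_five (h2 : (2 : F) ≠ 0) (ι : F) (hι : ι ^ 2 = -1) : g5 ι ^ 5 = 1 := by
  have h : g5 ι ^ 5 = ((g5 ι * g5 ι) * (g5 ι * g5 ι)) * g5 ι := by noncomm_ring
  rw [h, c64_g5_sq h2 ι hι, c64_g5_four h2 ι hι, c64_g5_five h2 ι hι]

/-- `g5 ≠ 1`. -/
theorem c64_g5_ne_one (h2 : (2 : F) ≠ 0) (ι : F) (hι : ι ^ 2 = -1) : g5 ι ≠ 1 := by
  intro h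
  have h01 := congrFun (congrFun h 0) 1
  simp [g5] at h01
  rcases h01 with h01 | h01
  · exact h2 h01
  · rw [h01] at hι
    norm_num at hι

end g5

section charpoly

variable {F : Type u} [Field F]

/-- The fifth cyclotomic polynomial. -/
noncomputable def c64Phi (F : Type u) [Field F] : F[X] := X ^ 4 + X ^ 3 + X ^ 2 + X + 1

theorem c64Phi_monic : (c64Phi F).Monic := by
  unfold c64Phi; monicity!

theorem c64Phi_natDegree : (c64Phi F).natDegree = 4 := by
  unfold c64Phi; compute_degree!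

theorem c64Phi_mul : c64Phi F * (X - 1) = X ^ 5 - 1 := by
  unfold c64Phi; ring

variable [Fintype F]

/-- `Φ_5` is irreducible over `F_p` when `p` has order `4` modulo `5`. -/
theorem c64Phi_irreducible (p : ℕ) [Fact p.Prime] [CharP F p] (hcard : Fintype.card F = p)
    (hord : orderOf (p : ZMod 5) = 4) : Irreducible (c64Phi F) := by
  have hp5 : p ≠ 5 := by
    rintro rfl
    have h0 : ((5 : ℕ) : ZMod 5) = 0 := ZMod.natCast_self 5
    rw [h0] at hord
    simp at hord
  have h5F : (5 : F) ≠ 0 := by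
    intro h
    have h' : ((5 : ℕ) : F) = 0 := by exact_mod_cast h
    rw [CharP.cast_eq_zero_iff F p 5] at h'
    have hp : p.Prime := Fact.out
    have := (Nat.prime_dvd_prime_iff_eq hp (by norm_num)).1 h'
    exact hp5 this
  have hne : c64Phi F ≠ 0 := c64Phi_monic.ne_zero
  have hnu : ¬ IsUnit (c64Phi F) := by
    intro hu
    have := natDegree_eq_zero_of_isUnit hu
    rw [c64Phi_natDegree] at this
    omega
  obtain ⟨π, hπ, hdvd⟩ := WfDvdMonoid.exists_irreducible_factor hnu hne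
  haveI : Fact (Irreducible π) := ⟨hπ⟩
  have hπ0 : π ≠ 0 := hπ.ne_zero
  set ζ : AdjoinRoot π := AdjoinRoot.root π with hζ
  have hroot : aeval ζ (c64Phi F) = 0 := by
    obtain ⟨r, hr⟩ := hdvd
    rw [hr, map_mul, AdjoinRoot.aeval_eq, AdjoinRoot.mk_self, zero_mul]
  have hz5 : ζ ^ 5 = 1 := by
    have h := congrArg (aeval ζ) (c64Phi_mul (F := F))
    rw [map_mul, hroot, zero_mul] at h
    simp at h
    exact (sub_eq_zero.1 h.symm)
  have h5K : (5 : AdjoinRoot π) ≠ 0 := by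
    intro h
    exact h5F ((algebraMap F (AdjoinRoot π)).injective (by rw [map_ofNat, map_zero]; exact h))
  have hz1 : ζ ≠ 1 := by
    intro h
    rw [h] at hroot
    simp [c64Phi] at hroot
    apply h5K
    rw [← hroot]; norm_num
  have hz0 : ζ ≠ 0 := by
    intro h
    rw [h] at hz5
    simp at hz5
  haveI : Fact (Nat.Prime 5) := ⟨by norm_num⟩
  have hordu : orderOf (Units.mk0 ζ hz0) = 5 := by
    apply orderOf_eq_prime
    · apply Units.ext
      simp [hz5]
    · intro h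
      apply hz1
      have := congrArg Units.val h
      simpa using this
  -- cardinality of the extension
  have hfin : Module.Finite F (AdjoinRoot π) := (AdjoinRoot.powerBasis hπ0).finite
  have hrank : Module.finrank F (AdjoinRoot π) = π.natDegree := by
    rw [(AdjoinRoot.powerBasis hπ0).finrank, AdjoinRoot.powerBasis_dim]
  haveI : Finite (AdjoinRoot π) := Module.finite_of_finite F
  have hcardK : Nat.card (AdjoinRoot π) = p ^ π.natDegree := by
    rw [Module.natCard_eq_pow_finrank (K := F), hrank, Nat.card_eq_fintype_card, hcard]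
  have hdvd5 : 5 ∣ p ^ π.natDegree - 1 := by
    have h := orderOf_dvd_natCard (Units.mk0 ζ hz0)
    rw [hordu, Nat.card_units, hcardK] at h
    exact h
  have hp : p.Prime := Fact.out
  have hpos : 1 ≤ p ^ π.natDegree := Nat.one_le_pow _ _ hp.pos
  have hpow : (p : ZMod 5) ^ π.natDegree = 1 := by
    have h := (ZMod.natCast_eq_zero_iff (p ^ π.natDegree - 1) 5).2 hdvd5
    rw [Nat.cast_sub hpos] at h
    push_cast at h
    exact sub_eq_zero.1 h
  have h4 : 4 ∣ π.natDegree := hord ▸ orderOf_dvd_of_pow_eq_one hpow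
  have hle : π.natDegree ≤ 4 := by
    rw [← c64Phi_natDegree (F := F)]
    exact natDegree_le_of_dvd hdvd hne
  have hpos' : 0 < π.natDegree := hπ.natDegree_pos
  have hdeg : π.natDegree = 4 := by
    obtain ⟨k, hk⟩ := h4
    omega
  have hassoc : Associated π (c64Phi F) := by
    apply associated_of_dvd_of_degree_eq hdvd
    rw [degree_eq_natDegree hπ0, degree_eq_natDegree hne, hdeg, c64Phi_natDegree]
  exact hassoc.irreducible hπ

/-- An element of order `5` of `GL_4(p)` has characteristic polynomial `Φ_5`. -/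
theorem c64_charpoly_eq (p : ℕ) [Fact p.Prime] [CharP F p] (hcard : Fintype.card F = p)
    (hord : orderOf (p : ZMod 5) = 4) (y : M4 F) (hy5 : y ^ 5 = 1) (hy1 : y ≠ 1) :
    y.charpoly = c64Phi F := by
  have hirr := c64Phi_irreducible p hcard hord
  have hμ : minpoly F y ∣ c64Phi F * (X - 1) := by
    rw [c64Phi_mul]
    apply minpoly.dvd
    simp [hy5]
  by_cases hdvd : c64Phi F ∣ minpoly F y
  · have h1 : c64Phi F ∣ y.charpoly := hdvd.trans (Matrix.minpoly_dvd_charpoly y)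
    refine eq_of_monic_of_dvd_of_natDegree_le c64Phi_monic (Matrix.charpoly_monic y) h1 ?_
    rw [Matrix.charpoly_natDegree_eq_dim, c64Phi_natDegree]
    simp
  · exfalso
    have hco : IsCoprime (c64Phi F) (minpoly F y) := (Irreducible.coprime_iff_not_dvd hirr).2 hdvd
    have h1 : minpoly F y ∣ X - 1 := hco.symm.dvd_of_dvd_mul_left hμ
    have h2 : aeval y (X - 1 : F[X]) = 0 := (minpoly.dvd_iff).1 h1
    apply hy1
    simpa [sub_eq_zero] using h2

end charpoly

/-- **[POS5]** -/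
theorem pkgPos5_of (hN : PkgNG.{u}) : PkgPos5.{u} := by
  intro F _ _ p _ _ hcard hp4 hord ι hι x hx hz hns
  obtain ⟨z, hz⟩ := hz
  have hp : p.Prime := Fact.out
  have hp2 : p ≠ 2 := by
    rintro rfl
    omega
  have hp5 : p ≠ 5 := by
    rintro rfl
    have h0 : ((5 : ℕ) : ZMod 5) = 0 := ZMod.natCast_self 5
    rw [h0] at hord
    simp at hord
  have h2 : (2 : F) ≠ 0 := by
    intro h
    have h' : ((2 : ℕ) : F) = 0 := by exact_mod_cast h
    rw [CharP.cast_eq_zero_iff F p 2] at h'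
    exact hp2 ((Nat.prime_dvd_prime_iff_eq hp Nat.prime_two).1 h')
  have h5 : (5 : F) ≠ 0 := by
    intro h
    have h' : ((5 : ℕ) : F) = 0 := by exact_mod_cast h
    rw [CharP.cast_eq_zero_iff F p 5] at h'
    exact hp5 ((Nat.prime_dvd_prime_iff_eq hp (by norm_num)).1 h')
  have hcop : (Nat.card Fˣ).Coprime 5 := by
    rw [Nat.card_units, Nat.card_eq_fintype_card, hcard, Nat.coprime_comm,
      Nat.Prime.coprime_iff_not_dvd (by norm_num)]
    intro hd
    have h1 : (p : ZMod 5) = 1 := by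
      have h := (ZMod.natCast_eq_zero_iff (p - 1) 5).2 hd
      rw [Nat.cast_sub hp.one_le] at h
      push_cast at h
      exact sub_eq_zero.1 h
    rw [h1, orderOf_one] at hord
    omega
  have hz0 : z ≠ 0 := by
    rintro rfl
    have h1 : ((x ^ 5 : GL (Fin 4) F) : M4 F) * (((x ^ 5)⁻¹ : GL (Fin 4) F) : M4 F) = 1 := by
      rw [← Units.val_mul]; simp
    rw [hz] at h1
    simp at h1
  obtain ⟨cu, hcu⟩ := hcop.pow_left_bijective.2 (Units.mk0 z hz0)
  have hc5 : (cu : F) ^ 5 = z := by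
    have := congrArg Units.val hcu
    simpa using this
  have hc0 : (cu : F) ≠ 0 := cu.ne_zero
  generalize (cu : F) = c at hc5 hc0
  have hx5 : (x : M4 F) ^ 5 = z • (1 : M4 F) := by
    rw [← hz]; simp
  have hy5 : (c⁻¹ • (x : M4 F)) ^ 5 = 1 := by
    rw [_root_.smul_pow, hx5, smul_smul, inv_pow, hc5, inv_mul_cancel₀ hz0, one_smul]
  have hxy : (x : M4 F) = c • (c⁻¹ • (x : M4 F)) := by
    rw [smul_smul, mul_inv_cancel₀ hc0, one_smul]
  have hy1 : c⁻¹ • (x : M4 F) ≠ 1 := by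
    intro h
    apply hns
    exact ⟨c, by rw [hxy, h]⟩
  generalize c⁻¹ • (x : M4 F) = y at hy5 hxy hy1
  have hdet1 : ∀ M : M4 F, M ^ 5 = 1 → M.det = 1 := by
    intro M hM
    have hd : M.det ^ 5 = 1 := by rw [← Matrix.det_pow, hM, Matrix.det_one]
    have hd0 : M.det ≠ 0 := by
      intro h
      rw [h] at hd
      simp at hd
    have h1 := hcop.pow_left_bijective.1 (a₁ := Units.mk0 M.det hd0) (a₂ := 1) (by
      apply Units.ext
      simp [hd])
    have := congrArg Units.val h1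
    simpa using this
  have hg5 := c64_g5_pow_five h2 ι hι
  obtain ⟨k, hk⟩ := isConj_iff.1 (Cfsg.Agent.Lib.Helper40.isConj_SL_of_semisimple
    (⟨y, hdet1 y hy5⟩ : Matrix.SpecialLinearGroup (Fin 4) F) ⟨g5 ι, hdet1 _ hg5⟩
    (Cfsg.Agent.Lib.Helper40.isSemisimple_of_pow_eq_one y 5 (by exact_mod_cast h5) hy5)
    (Cfsg.Agent.Lib.Helper40.isSemisimple_of_pow_eq_one (g5 ι) 5 (by exact_mod_cast h5) hg5)
    (by
      show y.charpoly = (g5 ι).charpoly
      rw [c64_charpoly_eq p hcard hord y hy5 hy1,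
        c64_charpoly_eq p hcard hord _ hg5 (c64_g5_ne_one h2 ι hι)]))
  have hk' : (k : M4 F) * y * ((k⁻¹ : Matrix.SpecialLinearGroup (Fin 4) F) : M4 F) = g5 ι := by
    have := congrArg (fun s : Matrix.SpecialLinearGroup (Fin 4) F => (s : M4 F)) hk
    simp only [Matrix.SpecialLinearGroup.coe_mul] at this
    exact this
  refine ⟨Matrix.SpecialLinearGroup.toGL k⁻¹, ?_, ?_⟩
  · show Matrix.SpecialLinearGroup.toGL k⁻¹ ∈ (Matrix.GeneralLinearGroup.det :
      GL (Fin 4) F →* Fˣ).ker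
    rw [MonoidHom.mem_ker]
    apply Units.ext
    simp
  · apply hN F h2 ι hι _ c
    have e1 : (Matrix.SpecialLinearGroup.toGL k⁻¹)⁻¹ = Matrix.SpecialLinearGroup.toGL k := by
      rw [map_inv, inv_inv]
    rw [e1]
    simp only [Units.val_mul]
    show (k : M4 F) * (x : M4 F) * ((k⁻¹ : Matrix.SpecialLinearGroup (Fin 4) F) : M4 F) = c • g5 ι
    rw [hxy, Matrix.mul_smul, Matrix.smul_mul, hk']

end Cfsg.Agent.Lib.Helper70.C64
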